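import Groth.Agent.S1618
import Groth.Agent.Curves.K756.DimDef
import Groth.Agent.Lefpen.H703.ClosedSmooth
import Groth.Agent.VarietyA.SmoothReg
import Groth.Agent.Divis.SurfConn
import Groth.Agent.Dual.H339.OmegaRank
import Groth.Agent.PerfB.FibreConc
import Groth.Agent.Curves.K329.DegPoly
import Groth.Agent.CurvesC.Dim1Top
import Groth.Agent.Sga4h.H883.CurveCover
import Groth.Agent.Ega2.QCohLocal
import Groth.Agent.Ega2.VeryAmpleAmple
import Groth.Prelude.Def_CohB1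
import Groth.Prelude.Def_CurvBase
import Groth.Prelude.Def_Curve
import Groth.Prelude.Def_Omega2
import Groth.Prelude.Def_Twist2
import Mathlib.AlgebraicGeometry.Morphisms.Smooth
import Mathlib.AlgebraicGeometry.Morphisms.ClosedImmersion
import Mathlib.Topology.KrullDimension
import Mathlib.FieldTheory.IsAlgClosed.Basic

/-!
# Rational curves of bounded degree in characteristic `p` (Mori): assembly

`s16503_of`: the bend and break statement S16503 in characteristic `p`, from the dimension bound for the space of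
morphisms fixing points (`DimBound`), the Frobenius twist (`TwistP`) and the statements S16504 (`P504`) and S16510
(`P510`).
-/

set_option autoImplicit false
universe u

open CategoryTheory CategoryTheory.Limits AlgebraicGeometry TopologicalSpace

namespace K667.MoriAsm

open K756.DimDef

/-! ### The inputs -/

/-- the Frobenius twist (node 1) over a fixed field -/
def TwistP (k : Type u) [Field k] : Prop :=
  ∀ (C : Scheme.{u}) [C.Over (Spec (CommRingCat.of k))]
    (_ : Curve.IsSmoothProperCurve k C (C ↘ Spec (CommRingCat.of k))) (Q : ℕ),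
    ∃ (C' : Scheme.{u}) (_ : C'.Over (Spec (CommRingCat.of k))) (φ : C' ⟶ C) (q : ℕ),
      Curve.IsSmoothProperCurve k C' (C' ↘ Spec (CommRingCat.of k)) ∧
      φ ≫ (C ↘ Spec (CommRingCat.of k)) = C' ↘ Spec (CommRingCat.of k) ∧
      Function.Bijective φ.base ∧ Q ≤ q ∧
      Curv2.euler k C' (Coh.structureModule C') = Curv2.euler k C (Coh.structureModule C) ∧
      ∀ (n : ℕ) (M : C.Modules), FlatMod.IsFinLocFreeOfRank n M →
        Curv2.deg k C' ((Scheme.Modules.pullback φ).obj M) n = q * Curv2.deg k C M n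

/-- the statement S16504 over a fixed field -/
def P504 (k : Type u) [Field k] : Prop :=
  ∀ (X : Scheme.{u}) [X.Over (Spec (CommRingCat.of k))] [IsIntegral X]
    (N : ℕ) (ι : X ⟶ CohB1.ProjSpace N k) [IsClosedImmersion ι]
    (_ : ι ≫ CohB1.ProjSpace.toSpec N k = X ↘ Spec (CommRingCat.of k)) (d : ℕ),
    ∃ Z : Set X, IsClosed Z ∧ ∀ x : X, IsClosed ({x} : Set X) →
      (x ∈ Z ↔ ∃ g : CohB1.ProjSpace 1 k ⟶ X,
        g ≫ (X ↘ Spec (CommRingCat.of k)) = CohB1.ProjSpace.toSpec 1 k ∧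
        (¬ ∃ y : X, Set.range g.base ⊆ {y}) ∧ x ∈ Set.range g.base ∧
        Curv2.deg k (CohB1.ProjSpace 1 k)
          ((Scheme.Modules.pullback (g ≫ ι)).obj (Twist.twistProjSpace N k 1)) 1 ≤ d)

/-- the statement S16510 over a fixed field -/
def P510 (k : Type u) [Field k] : Prop :=
  ∀ (X : Scheme.{u}) [X.Over (Spec (CommRingCat.of k))] [IsIntegral X]
    (N : ℕ) (ι : X ⟶ CohB1.ProjSpace N k) [IsClosedImmersion ι]
    (_ : ι ≫ CohB1.ProjSpace.toSpec N k = X ↘ Spec (CommRingCat.of k))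
    (C : Scheme.{u}) [C.Over (Spec (CommRingCat.of k))] (_ : Curve.IsSmoothProperCurve k C (C ↘ Spec (CommRingCat.of k)))
    (T : Scheme.{u}) [T.Over (Spec (CommRingCat.of k))] [IsIntegral T] [IsSeparated (T ↘ Spec (CommRingCat.of k))]
    [LocallyOfFiniteType (T ↘ Spec (CommRingCat.of k))] [CompactSpace T] (_ : topologicalKrullDim T = 1)
    (t₀ : Spec (CommRingCat.of k) ⟶ T) (_ : t₀ ≫ (T ↘ Spec (CommRingCat.of k)) = 𝟙 _)
    (F : Limits.pullback (C ↘ Spec (CommRingCat.of k)) (T ↘ Spec (CommRingCat.of k)) ⟶ X)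
    (_ : F ≫ (X ↘ Spec (CommRingCat.of k)) = Limits.pullback.fst (C ↘ Spec (CommRingCat.of k)) (T ↘ Spec (CommRingCat.of k)) ≫ (C ↘ Spec (CommRingCat.of k)))
    (s : C ⟶ Limits.pullback (C ↘ Spec (CommRingCat.of k)) (T ↘ Spec (CommRingCat.of k))) (_ : s ≫ Limits.pullback.fst (C ↘ Spec (CommRingCat.of k)) (T ↘ Spec (CommRingCat.of k)) = 𝟙 C)
    (_ : s ≫ Limits.pullback.snd (C ↘ Spec (CommRingCat.of k)) (T ↘ Spec (CommRingCat.of k)) = (C ↘ Spec (CommRingCat.of k)) ≫ t₀)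
    (f : C ⟶ X) (_ : f = s ≫ F)
    (B : Finset C) (_ : B.Nonempty) (_ : ∀ b ∈ B, IsClosed ({b} : Set C))
    (_ : ∀ b ∈ B, ∀ z : ↥(Limits.pullback (C ↘ Spec (CommRingCat.of k)) (T ↘ Spec (CommRingCat.of k))),
      (Limits.pullback.fst (C ↘ Spec (CommRingCat.of k)) (T ↘ Spec (CommRingCat.of k))).base z = b → F.base z = f.base b)
    (_ : ¬ ∃ h : C ⟶ X, F = Limits.pullback.fst (C ↘ Spec (CommRingCat.of k)) (T ↘ Spec (CommRingCat.of k)) ≫ h),
    ∃ g : CohB1.ProjSpace 1 k ⟶ X, g ≫ (X ↘ Spec (CommRingCat.of k)) = CohB1.ProjSpace.toSpec 1 k ∧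
      (¬ ∃ x : X, Set.range g.base ⊆ {x}) ∧ (∃ b ∈ B, f.base b ∈ Set.range g.base) ∧
      Curv2.deg k (CohB1.ProjSpace 1 k)
          ((Scheme.Modules.pullback (g ≫ ι)).obj (Twist.twistProjSpace N k 1)) 1 * (B.card : ℤ) ≤
      2 * Curv2.deg k C ((Scheme.Modules.pullback (f ≫ ι)).obj (Twist.twistProjSpace N k 1)) 1

/-! ### The differentials -/

/-- The pullback of the differentials along a morphism with image in the smooth locus is locally free of rank the
dimension. -/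
theorem isFinLocFreeOfRank_pullback_omega (k : Type u) [Field k] [IsAlgClosed k] {X C : Scheme.{u}}
    [X.Over (Spec (CommRingCat.of k))] [IsIntegral X] [LocallyOfFiniteType (X ↘ Spec (CommRingCat.of k))]
    [QuasiSeparated (X ↘ Spec (CommRingCat.of k))] (n : ℕ) (hn : topologicalKrullDim X = n)
    (f : C ⟶ X) [hC : Nonempty C] (U : X.Opens) (hU : Set.range f.base ⊆ (U : Set X))
    (hUs : Smooth (U.ι ≫ (X ↘ Spec (CommRingCat.of k)))) :
    FlatMod.IsFinLocFreeOfRank n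
      ((Scheme.Modules.pullback f).obj (Omega.sheaf (X ↘ Spec (CommRingCat.of k)))) := by
  obtain ⟨c⟩ := hC
  have hne : (U : Set X).Nonempty := ⟨f.base c, hU ⟨c, rfl⟩⟩
  have : Nonempty (U : Scheme.{u}) := hne.to_subtype
  have : IsIntegral (U : Scheme.{u}) := isIntegral_of_isOpenImmersion U.ι
  have hnU : topologicalKrullDim (U : Scheme.{u}) = n := by
    rw [← hn]
    exact Groth.Agent.S1618.result k X U hne
  have hsm : SmoothOfRelativeDimension n (U.ι ≫ (X ↘ Spec (CommRingCat.of k))) := by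
    refine Groth.Agent.Lefpen.H703.ClosedSmooth.smoothOfRelativeDimension_of_closed _ n fun z hz => ⟨?_, ?_⟩
    · rw [← Groth.Agent.VarietyA.SmoothReg.mem_smoothLocus_iff_of_perfectField
        (U.ι ≫ (X ↘ Spec (CommRingCat.of k))) z, Scheme.Hom.smoothLocus_eq_top]
      trivial
    · rw [Groth.Agent.Divis.SurfConn.ringKrullDim_stalk_eq k _ (U.ι ≫ (X ↘ Spec (CommRingCat.of k))) z hz, hnU]
  have h1 := Groth.Agent.Dual.H339.OmegaRank.isFinLocFreeOfRank_omega n (U.ι ≫ (X ↘ Spec (CommRingCat.of k)))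
  let q : C ⟶ (U : Scheme.{u}) := IsOpenImmersion.lift U.ι f (by simpa using hU)
  have hq : q ≫ U.ι = f := IsOpenImmersion.lift_fac _ _ _
  have h2 := Groth.Agent.PerfB.FibreConc.isFinLocFreeOfRank_pullback q h1
  let e : (Scheme.Modules.pullback q).obj (Omega.sheaf (U.ι ≫ (X ↘ Spec (CommRingCat.of k)))) ≅
      (Scheme.Modules.pullback f).obj (Omega.sheaf (X ↘ Spec (CommRingCat.of k))) :=
    (Scheme.Modules.pullback q).mapIso
      (Groth.Agent.Smoothlim.ConormalRes.omegaRestrictIso (f := X ↘ Spec (CommRingCat.of k))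
        (f' := U.ι ≫ (X ↘ Spec (CommRingCat.of k))) (j := U.ι) (l := 𝟙 _) (by simp)).symm ≪≫
      (Scheme.Modules.pullbackComp q U.ι).app _ ≪≫ (Scheme.Modules.pullbackCongr hq).app _
  intro x
  obtain ⟨V, hx, ⟨i⟩⟩ := h2 x
  exact ⟨V, hx, ⟨((Scheme.Modules.restrictFunctor V.ι).mapIso e).symm ≪≫ i⟩⟩

/-! ### Points -/

/-- A scheme with irreducible underlying space of dimension zero is a point. -/
theorem subsingleton_of_dim_zero {X : Type*} [TopologicalSpace X] [T0Space X] [IrreducibleSpace X]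
    (h : topologicalKrullDim X = 0) : Subsingleton X := by
  have h0 : ∀ a : IrreducibleCloseds X, IsMax a :=
    Order.krullDim_nonpos_iff_forall_isMax.1 (le_of_eq h)
  have hx : ∀ x : X, closure ({x} : Set X) = Set.univ := by
    intro x
    have h1 := h0 ⟨closure {x}, isIrreducible_singleton.closure, isClosed_closure⟩
      (b := ⟨Set.univ, IrreducibleSpace.isIrreducible_univ X, isClosed_univ⟩) (Set.subset_univ _)
    exact Set.Subset.antisymm (Set.subset_univ _) h1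
  refine ⟨fun x y => ?_⟩
  refine (inseparable_iff_closure_eq.2 ?_).eq
  rw [hx x, hx y]

theorem exists_finset (k : Type u) [Field k] {C : Scheme.{u}} (p : C ⟶ Spec (CommRingCat.of k))
    (hC : Curve.IsSmoothProperCurve k C p) (Z : Set C) (hZ : IsClosed Z) (hne : Z ≠ Set.univ) (b : ℕ) :
    ∃ B : Finset C, B.card = b ∧ ∀ x ∈ B, IsClosed ({x} : Set C) ∧ x ∉ Z := by
  obtain ⟨hp, -, hi, hd⟩ := hC
  have : LocallyOfFiniteType p := inferInstance
  have : IsLocallyNoetherian C := LocallyOfFiniteType.isLocallyNoetherian p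
  have : CompactSpace C := (quasiCompact_iff_compactSpace p).1 inferInstance
  have : IsNoetherian C := {}
  have hfin : Z.Finite := Groth.Agent.CurvesC.Dim1Top.finite_of_isClosed hd.le hZ hne
  have hinf := Groth.Agent.Sga4h.H883.CurveCover.infinite_closedPoints p hd
  obtain ⟨B, hB, hb⟩ := (hinf.sdiff hfin).exists_subset_card_eq b
  exact ⟨B, hb, fun x hx => hB hx⟩

/-! ### Bend and break at a point outside a closed set -/

section Main

variable (k : Type u) [Field k] [IsAlgClosed k]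

theorem exists_card (n : ℕ) (a : ℤ) (h : (n : ℤ) + 2 ≤ a) :
    ∃ b : ℕ, 0 < b ∧ (n : ℤ) * b + 2 ≤ a ∧ (n = 0 ∨ a - (n + 1) ≤ n * b) := by
  rcases Nat.eq_zero_or_pos n with rfl | hn
  · exact ⟨1, one_pos, by push_cast at h ⊢; linarith, Or.inl rfl⟩
  · have hn' : (0 : ℤ) < n := by exact_mod_cast hn
    have h1 : 1 ≤ (a - 2) / n := by
      rw [Int.le_ediv_iff_mul_le hn']
      linarith
    have h2 : (((a - 2) / n).toNat : ℤ) = (a - 2) / n := Int.toNat_of_nonneg (by linarith)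
    have h3 := Int.emod_add_mul_ediv (a - 2) n
    have h4 := Int.emod_nonneg (a - 2) hn'.ne'
    have h5 := Int.emod_lt_of_pos (a - 2) hn'
    refine ⟨((a - 2) / n).toNat, by omega, ?_, Or.inr ?_⟩
    · rw [h2]; linarith
    · rw [h2]; linarith

theorem bend (H : DimBound.{u} k) (Htw : TwistP.{u} k) (H10 : P510.{u} k)
    (X : Scheme.{u}) [X.Over (Spec (CommRingCat.of k))] [IsIntegral X]
    (N : ℕ) (ι : X ⟶ CohB1.ProjSpace N k) [IsClosedImmersion ι]
    (hι : ι ≫ CohB1.ProjSpace.toSpec N k = X ↘ Spec (CommRingCat.of k))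
    (n : ℕ) (hn : topologicalKrullDim X = n)
    (C : Scheme.{u}) [C.Over (Spec (CommRingCat.of k))]
    (hC : Curve.IsSmoothProperCurve k C (C ↘ Spec (CommRingCat.of k)))
    (f : C ⟶ X) (hf : f ≫ (X ↘ Spec (CommRingCat.of k)) = C ↘ Spec (CommRingCat.of k))
    (U : X.Opens) (hU : Set.range f.base ⊆ (U : Set X))
    (hUs : Smooth (U.ι ≫ (X ↘ Spec (CommRingCat.of k))))
    (δ d χ : ℤ)
    (hδ : Curv2.deg k C ((Scheme.Modules.pullback f).obj (Omega.sheaf (X ↘ Spec (CommRingCat.of k)))) n = - δ)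
    (hδ0 : 0 < δ)
    (hd : Curv2.deg k C ((Scheme.Modules.pullback (f ≫ ι)).obj (Twist.twistProjSpace N k 1)) 1 = d)
    (hχ : Curv2.euler k C (Coh.structureModule C) = χ)
    (c : C) (Z : Set X) (hZ : IsClosed Z) (hcZ : f.base c ∉ Z) (Q : ℕ) :
    ∃ (q b : ℕ) (g : CohB1.ProjSpace 1 k ⟶ X) (x : X), Q ≤ q ∧ 0 < b ∧
      (n = 0 ∨ q * δ + (n + 1) * (χ - 1) ≤ n * b) ∧
      g ≫ (X ↘ Spec (CommRingCat.of k)) = CohB1.ProjSpace.toSpec 1 k ∧
      (¬ ∃ x : X, Set.range g.base ⊆ {x}) ∧ IsClosed ({x} : Set X) ∧ x ∉ Z ∧ x ∈ Set.range g.base ∧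
      Curv2.deg k (CohB1.ProjSpace 1 k)
          ((Scheme.Modules.pullback (g ≫ ι)).obj (Twist.twistProjSpace N k 1)) 1 * (b : ℤ) ≤ 2 * (q * d) := by
  obtain ⟨C', hC'o, φ, q, hC', hφ, hbij, hQ, hχ', hdeg⟩ := Htw C hC (max Q (n + 2 - (n + 1) * χ).toNat)
  have hq1 : (n : ℤ) + 2 - (n + 1) * χ ≤ q :=
    (Int.self_le_toNat _).trans (by exact_mod_cast (le_max_right _ _).trans hQ)
  have hqδ : (q : ℤ) ≤ q * δ := by nlinarith [(Nat.cast_nonneg q : (0 : ℤ) ≤ q)]
  obtain ⟨b, hb0, hb1, hb2⟩ := exists_card n (q * δ + (n + 1) * χ) (by linarith)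
  have hπ : IsProper (X ↘ Spec (CommRingCat.of k)) := by
    have : IsProper (CohB1.ProjSpace.toSpec N k) :=
      Groth.Agent.VarietyB.ProjSpaceProper.isProper_toSpec N k
    rw [← hι]; infer_instance
  have hCi : IsIntegral C := hC.2.2.1
  have hC'i : IsIntegral C' := hC'.2.2.1
  have hrk := isFinLocFreeOfRank_pullback_omega k n hn f U hU hUs
  have hrk1 : FlatMod.IsFinLocFreeOfRank 1
      ((Scheme.Modules.pullback (f ≫ ι)).obj (Twist.twistProjSpace N k 1)) :=
    Groth.Agent.PerfB.FibreConc.isFinLocFreeOfRank_pullback _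
      (Groth.Agent.Ega2.QCohLocal.isFinLocFreeOfRank_one_iff.2
        (Groth.Agent.Ega2.VeryAmpleAmple.isInvertible_twistProjSpace N k 1))
  have h1 : Curv2.deg k C' ((Scheme.Modules.pullback (φ ≫ f)).obj (Omega.sheaf (X ↘ Spec (CommRingCat.of k)))) n =
      q * (- δ) := by
    rw [← hδ, ← hdeg n _ hrk]
    exact K329.Deg.deg_congr ((Scheme.Modules.pullbackComp φ f).app _).symm n
  have h2 : Curv2.deg k C' ((Scheme.Modules.pullback ((φ ≫ f) ≫ ι)).obj (Twist.twistProjSpace N k 1)) 1 =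
      q * d := by
    rw [← hd, ← hdeg 1 _ hrk1]
    exact K329.Deg.deg_congr ((Scheme.Modules.pullbackCongr (Category.assoc φ f ι)).app _ ≪≫
      ((Scheme.Modules.pullbackComp φ (f ≫ ι)).app _).symm) 1
  have hf' : (φ ≫ f) ≫ (X ↘ Spec (CommRingCat.of k)) = C' ↘ Spec (CommRingCat.of k) := by
    rw [Category.assoc, hf, hφ]
  have hU' : Set.range (φ ≫ f).base ⊆ (U : Set X) := by
    rintro _ ⟨z, rfl⟩
    exact hU ⟨φ.base z, by simp⟩
  obtain ⟨c', hc'⟩ := hbij.2 c
  obtain ⟨B, hB, hB'⟩ := exists_finset k (C' ↘ Spec (CommRingCat.of k)) hC' ((φ ≫ f).base ⁻¹' Z)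
    (hZ.preimage (φ ≫ f).base.hom.continuous) (fun h => hcZ (by
      have : c' ∈ (φ ≫ f).base ⁻¹' Z := h ▸ Set.mem_univ _
      rw [← hc']
      simpa using this)) b
  obtain ⟨T, hTo, t₀, F, s, i1, i2, i3, i4, hT, ht₀, hF, hs₁, hs₂, hfF, hfix, hnt⟩ :=
    H X N ι hι n hn C' hC' (φ ≫ f) hf' U hU' hUs B (fun b hb => (hB' b hb).1) (by
      rw [h1, hB, hχ', hχ]
      linarith)
  obtain ⟨g, hg, hgc, ⟨b', hb', hb''⟩, hgd⟩ := H10 X N ι hι C' hC' T hT t₀ ht₀ F hF s hs₁ hs₂ (φ ≫ f) hfF B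
    (Finset.card_pos.1 (by omega)) (fun b hb => (hB' b hb).1) hfix hnt
  refine ⟨q, b, g, (φ ≫ f).base b', (le_max_left _ _).trans hQ, hb0, ?_, hg, hgc, ?_, (hB' b' hb').2, hb'', ?_⟩
  · rcases hb2 with h | h
    · exact Or.inl h
    · right; linarith
  · have : LocallyOfFiniteType ((φ ≫ f) ≫ (X ↘ Spec (CommRingCat.of k))) := by
      rw [hf']; have := hC'.1; infer_instance
    have : LocallyOfFiniteType (φ ≫ f) := locallyOfFiniteType_of_comp _ (X ↘ Spec (CommRingCat.of k))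
    have : JacobsonSpace X := LocallyOfFiniteType.jacobsonSpace (X ↘ Spec (CommRingCat.of k))
    exact (φ ≫ f).closePoints_subset_preimage_closedPoints (hB' b' hb').1
  · rw [h2, hB] at hgd
    exact hgd

end Main

/-- **S16503 in characteristic `p`**, from its inputs. -/
theorem s16503_of (k : Type u) [Field k] [IsAlgClosed k]
    (H : DimBound.{u} k) (Htw : TwistP.{u} k) (H04 : P504.{u} k) (H10 : P510.{u} k)
    (X : Scheme.{u}) [X.Over (Spec (CommRingCat.of k))] [IsIntegral X]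
    (N : ℕ) (ι : X ⟶ CohB1.ProjSpace N k) [IsClosedImmersion ι]
    (hι : ι ≫ CohB1.ProjSpace.toSpec N k = X ↘ Spec (CommRingCat.of k))
    (n : ℕ) (hn : topologicalKrullDim X = n)
    (C : Scheme.{u}) [C.Over (Spec (CommRingCat.of k))] (hC : Curve.IsSmoothProperCurve k C (C ↘ Spec (CommRingCat.of k)))
    (f : C ⟶ X) (hf : f ≫ (X ↘ Spec (CommRingCat.of k)) = C ↘ Spec (CommRingCat.of k))
    (U : X.Opens) (hU : Set.range f.base ⊆ (U : Set X))
    (hUs : Smooth (U.ι ≫ (X ↘ Spec (CommRingCat.of k))))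
    (hK : Curv2.deg k C ((Scheme.Modules.pullback f).obj (Omega.sheaf (X ↘ Spec (CommRingCat.of k)))) n < 0)
    (c : C) (hc : IsClosed ({c} : Set C)) :
    ∃ g : CohB1.ProjSpace 1 k ⟶ X, g ≫ (X ↘ Spec (CommRingCat.of k)) = CohB1.ProjSpace.toSpec 1 k ∧
      (¬ ∃ x : X, Set.range g.base ⊆ {x}) ∧ f.base c ∈ Set.range g.base ∧
      Curv2.deg k (CohB1.ProjSpace 1 k)
          ((Scheme.Modules.pullback (g ≫ ι)).obj (Twist.twistProjSpace N k 1)) 1 *
        (- Curv2.deg k C ((Scheme.Modules.pullback f).obj (Omega.sheaf (X ↘ Spec (CommRingCat.of k)))) n) ≤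
      2 * n * Curv2.deg k C ((Scheme.Modules.pullback (f ≫ ι)).obj (Twist.twistProjSpace N k 1)) 1 := by
  obtain ⟨δ, hδ⟩ : ∃ δ : ℤ, Curv2.deg k C
      ((Scheme.Modules.pullback f).obj (Omega.sheaf (X ↘ Spec (CommRingCat.of k)))) n = - δ :=
    ⟨_, (neg_neg _).symm⟩
  obtain ⟨d, hd⟩ : ∃ d : ℤ, Curv2.deg k C
      ((Scheme.Modules.pullback (f ≫ ι)).obj (Twist.twistProjSpace N k 1)) 1 = d := ⟨_, rfl⟩
  obtain ⟨χ, hχ⟩ : ∃ χ : ℤ, Curv2.euler k C (Coh.structureModule C) = χ := ⟨_, rfl⟩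
  have hδ0 : 0 < δ := by
    rw [hδ] at hK
    linarith
  have B := bend k H Htw H10 X N ι hι n hn C hC f hf U hU hUs δ d χ hδ hδ0 hd hχ c
  have hg0 : ∀ g : CohB1.ProjSpace 1 k ⟶ X, g ≫ (X ↘ Spec (CommRingCat.of k)) = CohB1.ProjSpace.toSpec 1 k →
      0 ≤ Curv2.deg k (CohB1.ProjSpace 1 k)
          ((Scheme.Modules.pullback (g ≫ ι)).obj (Twist.twistProjSpace N k 1)) 1 := by
    intro g hg
    obtain ⟨e, -, -, -, -, -, -, -, he⟩ := K329.DegPoly.exists_poly (g ≫ ι) (by rw [Category.assoc, hι, hg])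
    rw [he]
    exact Nat.cast_nonneg e
  have hn0 : n ≠ 0 := by
    rintro rfl
    obtain ⟨q, b, g, x, -, -, -, -, hgc, -⟩ := B ∅ isClosed_empty (Set.notMem_empty _) 0
    have := subsingleton_of_dim_zero (X := X) (by simpa using hn)
    exact hgc ⟨x, fun y _ => Subsingleton.elim _ _⟩
  have hd0 : 0 ≤ d := by
    by_contra hlt
    obtain ⟨q, b, g, x, hq, hb, -, hg, -, -, -, -, hgd⟩ := B ∅ isClosed_empty (Set.notMem_empty _) 1
    have h1 := hg0 g hg
    have h2 : (1 : ℤ) ≤ q := by exact_mod_cast hq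
    have h3 : (0 : ℤ) ≤ b := Nat.cast_nonneg b
    nlinarith [mul_nonneg h1 h3]
  obtain ⟨D, hD1, hD2⟩ : ∃ D : ℕ, (D : ℤ) * δ ≤ 2 * n * d ∧ 2 * n * d + 1 ≤ (D + 1) * δ := by
    refine ⟨(2 * n * d / δ).toNat, ?_⟩
    rw [Int.toNat_of_nonneg (Int.ediv_nonneg (by positivity) hδ0.le)]
    have h3 := Int.emod_add_mul_ediv (2 * n * d) δ
    have h4 := Int.emod_nonneg (2 * n * d) hδ0.ne'
    have h5 := Int.emod_lt_of_pos (2 * n * d) hδ0
    constructor
    · linarith
    · rw [add_mul]; linarith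
  obtain ⟨Z, hZ, hZ'⟩ := H04 X N ι hι D
  have hfc : IsClosed ({f.base c} : Set X) := by
    have hπ : IsProper (X ↘ Spec (CommRingCat.of k)) := by
      have : IsProper (CohB1.ProjSpace.toSpec N k) :=
        Groth.Agent.VarietyB.ProjSpaceProper.isProper_toSpec N k
      rw [← hι]; infer_instance
    have : LocallyOfFiniteType (f ≫ (X ↘ Spec (CommRingCat.of k))) := by
      rw [hf]; have := hC.1; infer_instance
    have : LocallyOfFiniteType f := locallyOfFiniteType_of_comp _ (X ↘ Spec (CommRingCat.of k))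
    have : JacobsonSpace X := LocallyOfFiniteType.jacobsonSpace (X ↘ Spec (CommRingCat.of k))
    exact f.closePoints_subset_preimage_closedPoints hc
  by_cases hcZ : f.base c ∈ Z
  · obtain ⟨g, hg, hgc, hx, hgd⟩ := (hZ' _ hfc).1 hcZ
    refine ⟨g, hg, hgc, hx, ?_⟩
    rw [hδ, hd, neg_neg]
    exact (mul_le_mul_of_nonneg_right hgd hδ0.le).trans hD1
  · exfalso
    obtain ⟨q, b, g, x, hq, hb, hqb, hg, hgc, hx, hxZ, hxg, hgd⟩ :=
      B Z hZ hcZ (((2 * n * d + 1) * ((n + 1) * (1 - χ))).toNat + 1)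
    replace hqb := hqb.resolve_left hn0
    have he : (D : ℤ) + 1 ≤ Curv2.deg k (CohB1.ProjSpace 1 k)
        ((Scheme.Modules.pullback (g ≫ ι)).obj (Twist.twistProjSpace N k 1)) 1 := by
      by_contra hlt
      exact hxZ ((hZ' x hx).2 ⟨g, hg, hgc, hxg, by omega⟩)
    have hq' : (2 * n * d + 1) * ((n + 1) * (1 - χ)) + 1 ≤ (q : ℤ) := by
      refine le_trans ?_ (Nat.cast_le.2 hq)
      push_cast
      linarith [Int.self_le_toNat ((2 * n * d + 1) * ((n + 1) * (1 - χ)))]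
    have hqδ : (q : ℤ) ≤ q * δ := by nlinarith [(Nat.cast_nonneg q : (0 : ℤ) ≤ q)]
    generalize Curv2.deg k (CohB1.ProjSpace 1 k)
        ((Scheme.Modules.pullback (g ≫ ι)).obj (Twist.twistProjSpace N k 1)) 1 = e at he hgd
    have hb' : (0 : ℤ) ≤ b := Nat.cast_nonneg b
    have hn' : (0 : ℤ) ≤ n := Nat.cast_nonneg n
    have hP : (0 : ℤ) ≤ 2 * n * d := by positivity
    have s1 : (2 * n * d + 1) * (n * b) ≤ (D + 1) * δ * (n * b) :=
      mul_le_mul_of_nonneg_right hD2 (mul_nonneg hn' hb')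
    have s2 : ((D : ℤ) + 1) * (δ * (n * b)) ≤ e * (δ * (n * b)) :=
      mul_le_mul_of_nonneg_right he (mul_nonneg hδ0.le (mul_nonneg hn' hb'))
    have s3 : e * b * (δ * n) ≤ 2 * (q * d) * (δ * n) :=
      mul_le_mul_of_nonneg_right hgd (mul_nonneg hδ0.le hn')
    have s4 : (2 * n * d + 1) * (q * δ + (n + 1) * (χ - 1)) ≤ (2 * n * d + 1) * (n * b) :=
      mul_le_mul_of_nonneg_left hqb (by linarith)
    have s5 : (2 * n * d + 1) * (q * δ + (n + 1) * (χ - 1)) ≤ 2 * n * d * (q * δ) := by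
      calc _ ≤ _ := s4
        _ ≤ _ := s1
        _ = (D + 1) * (δ * (n * b)) := by ring
        _ ≤ _ := s2
        _ = e * b * (δ * n) := by ring
        _ ≤ _ := s3
        _ = _ := by ring
    have s6 : (2 * n * d + 1) * (q * δ + (n + 1) * (χ - 1)) =
        2 * n * d * (q * δ) + q * δ - (2 * n * d + 1) * ((n + 1) * (1 - χ)) := by ring
    linarith

end K667.MoriAsm
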