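import Groth.Agent.Curves.K667.MoriAsm
import Groth.Agent.Curves.K354.FrobTw
import Groth.Agent.S16504

/-!
# Rational curves of bounded degree in characteristic `p` (Mori), from the dimension bound and bend and break
-/

set_option autoImplicit false
universe u

open CategoryTheory CategoryTheory.Limits AlgebraicGeometry TopologicalSpace

namespace K667.MoriAsm

open K756.DimDef

theorem twistP (k : Type u) [Field k] [IsAlgClosed k] (p : ℕ) [Fact p.Prime] [CharP k p] : TwistP.{u} k :=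
  fun C _ hC Q => K354.FrobTw.exists_twist k p C hC Q

theorem p504 (k : Type u) [Field k] [IsAlgClosed k] : P504.{u} k :=
  fun X _ _ N ι _ hι d => Groth.Agent.S16504.result k X N ι hι d

theorem s16503_of_dimBound_of_p510 (k : Type u) [Field k] [IsAlgClosed k] (p : ℕ) [Fact p.Prime] [CharP k p]
    (H : DimBound.{u} k) (H10 : P510.{u} k)
    (X : Scheme.{u}) [X.Over (Spec (CommRingCat.of k))] [IsIntegral X]
    (N : ℕ) (ι : X ⟶ CohB1.ProjSpace N k) [IsClosedImmersion ι]
    (hι : ι ≫ CohB1.ProjSpace.toSpec N k = X ↘ Spec (CommRingCat.of k))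
    (n : ℕ) (hn : topologicalKrullDim X = n)
    (C : Scheme.{u}) [C.Over (Spec (CommRingCat.of k))] (hC : Curve.IsSmoothProperCurve k C (C ↘ Spec (CommRingCat.of k)))
    (f : C ⟶ X) (hf : f ≫ (X ↘ Spec (CommRingCat.of k)) = C ↘ Spec (CommRingCat.of k))
    (U : X.Opens) (hU : Set.range f.base ⊆ (U : Set X))
    (hUs : Smooth (U.ι ≫ (X ↘ Spec (CommRingCat.of k))))
    (hK : Curv2.deg k C ((Scheme.Modules.pullback f).obj (Omega.sheaf (X ↘ Spec (CommRingCat.of k)))) n < 0)
    (c : C) (hc : IsClosed ({c} : Set C)) :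
    ∃ g : CohB1.ProjSpace 1 k ⟶ X, g ≫ (X ↘ Spec (CommRingCat.of k)) = CohB1.ProjSpace.toSpec 1 k ∧
      (¬ ∃ x : X, Set.range g.base ⊆ {x}) ∧ f.base c ∈ Set.range g.base ∧
      Curv2.deg k (CohB1.ProjSpace 1 k)
          ((Scheme.Modules.pullback (g ≫ ι)).obj (Twist.twistProjSpace N k 1)) 1 *
        (- Curv2.deg k C ((Scheme.Modules.pullback f).obj (Omega.sheaf (X ↘ Spec (CommRingCat.of k)))) n) ≤
      2 * n * Curv2.deg k C ((Scheme.Modules.pullback (f ≫ ι)).obj (Twist.twistProjSpace N k 1)) 1 :=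
  s16503_of k H (twistP k p) (p504 k) H10 X N ι hι n hn C hC f hf U hU hUs hK c hc

end K667.MoriAsm
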